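import Mathlib

set_option autoImplicit false

namespace Groth.Agent.H5.QD

open TensorProduct

universe u

section

variable (A B : Type u) [CommRing A] [CommRing B] [Algebra A B] (I : Ideal A)

lemma mem_map_of_mem' (x : I) : algebraMap A B x ∈ I.map (algebraMap A B) :=
  Ideal.mem_map_of_mem _ x.2

/-- Cotangent spaces commute with flat base change (quotient ring version). -/
theorem exists_cotangent_equiv [Module.Flat A B] :
    ∃ e : (B ⧸ I.map (algebraMap A B)) ⊗[A ⧸ I] I.Cotangent ≃ₗ[B ⧸ I.map (algebraMap A B)]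
        (I.map (algebraMap A B)).Cotangent,
      ∀ x : I, e ((1 : B ⧸ I.map (algebraMap A B)) ⊗ₜ[A ⧸ I] I.toCotangent x) =
        (I.map (algebraMap A B)).toCotangent ⟨algebraMap A B x, mem_map_of_mem' A B I x⟩ := by
  set J : Ideal B := I.map (algebraMap A B) with hJ
  letI modC : Module (A ⧸ I) J.Cotangent := Module.compHom _ (algebraMap (A ⧸ I) (B ⧸ J))
  haveI t1 : IsScalarTower (A ⧸ I) (B ⧸ J) J.Cotangent := ⟨fun c c' m => by
    change (c • c') • m = algebraMap (A ⧸ I) (B ⧸ J) c • (c' • m)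
    rw [Algebra.smul_def, mul_smul]⟩
  have h1 : ∀ (b : B) (m : J.Cotangent), (Ideal.Quotient.mk J b) • m = b • m := fun b m => by
    rw [← Ideal.Quotient.algebraMap_eq, algebraMap_smul]
  have h2 : ∀ (a : A) (m : J.Cotangent), (Ideal.Quotient.mk I a : A ⧸ I) • m = a • m := by
    intro a m
    change algebraMap (A ⧸ I) (B ⧸ J) (Ideal.Quotient.mk I a) • m = a • m
    have : algebraMap (A ⧸ I) (B ⧸ J) (Ideal.Quotient.mk I a) =
        Ideal.Quotient.mk J (algebraMap A B a) := rfl
    rw [this, h1, algebraMap_smul]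
  haveI t2 : IsScalarTower A (A ⧸ I) J.Cotangent := ⟨fun a c m => by
    obtain ⟨a₀, rfl⟩ := Ideal.Quotient.mk_surjective c
    have : a • (Ideal.Quotient.mk I a₀ : A ⧸ I) = Ideal.Quotient.mk I (a * a₀) := rfl
    rw [this, h2, h2, mul_smul]⟩
  let κ₀ : I.Cotangent →ₗ[A] J.Cotangent :=
    Ideal.mapCotangent I J (Algebra.ofId A B) Ideal.le_comap_map
  have hκ₀ : ∀ x : I, κ₀ (I.toCotangent x) =
      J.toCotangent ⟨algebraMap A B x, mem_map_of_mem' A B I x⟩ := fun x => rfl
  let κ₁ : I.Cotangent →ₗ[A ⧸ I] J.Cotangent :=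
    LinearMap.extendScalarsOfSurjective Ideal.Quotient.mk_surjective κ₀
  have hκ₁ : ∀ m, κ₁ m = κ₀ m := fun m => rfl
  let Ψ : (B ⧸ J) ⊗[A ⧸ I] I.Cotangent →ₗ[B ⧸ J] J.Cotangent := LinearMap.liftBaseChange (B ⧸ J) κ₁
  have hΨ : ∀ (c : B ⧸ J) (m : I.Cotangent), Ψ (c ⊗ₜ m) = c • κ₀ m := fun c m => rfl
  -- surjectivity
  have hsurj : Function.Surjective Ψ := by
    intro m
    obtain ⟨⟨y, hy⟩, rfl⟩ := J.toCotangent_surjective m
    have key : ∀ (y : B) (hy : y ∈ J), J.toCotangent ⟨y, hy⟩ ∈ LinearMap.range Ψ := by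
      intro y hy
      have hy' : y ∈ Submodule.span B ((algebraMap A B) '' (I : Set A)) := hy
      induction hy' using Submodule.span_induction with
      | mem y h =>
        obtain ⟨x, hx, rfl⟩ := h
        exact ⟨1 ⊗ₜ I.toCotangent ⟨x, hx⟩, by rw [hΨ, one_smul, hκ₀]⟩
      | zero =>
        have : (⟨0, hy⟩ : J) = 0 := rfl
        rw [this, map_zero]; exact zero_mem _
      | add y1 y2 h1 h2 ih1 ih2 =>
        have : (⟨y1 + y2, hy⟩ : J) = ⟨y1, h1⟩ + ⟨y2, h2⟩ := rfl
        rw [this, map_add]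
        exact add_mem (ih1 h1) (ih2 h2)
      | smul b y h ih =>
        have : (⟨b • y, hy⟩ : J) = b • ⟨y, h⟩ := rfl
        rw [this, map_smul, ← h1]
        exact Submodule.smul_mem _ _ (ih h)
    exact key y hy
  have hinj : Function.Injective Ψ := by
    rw [injective_iff_map_eq_zero]
    intro z hz
    obtain ⟨S, rfl⟩ := TensorProduct.exists_finset z
    choose bb hbb using fun p : (B ⧸ J) × I.Cotangent => Ideal.Quotient.mk_surjective (I := J) p.1
    choose xx hxx using fun p : (B ⧸ J) × I.Cotangent => I.toCotangent_surjective p.2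
    have hS : ∑ p ∈ S, p.1 ⊗ₜ[A ⧸ I] p.2 =
        ∑ p ∈ S, (Ideal.Quotient.mk J (bb p)) ⊗ₜ[A ⧸ I] I.toCotangent (xx p) :=
      Finset.sum_congr rfl fun p _ => by rw [hbb p, hxx p]
    rw [hS] at hz ⊢
    let yJ : J := ∑ p ∈ S, bb p • (⟨algebraMap A B (xx p), mem_map_of_mem' A B I (xx p)⟩ : J)
    have hyJ : J.toCotangent yJ = 0 := by
      rw [← hz, map_sum, map_sum]
      refine Finset.sum_congr rfl fun p _ => ?_
      rw [hΨ, hκ₀, h1, map_smul]
    rw [Ideal.toCotangent_eq_zero] at hyJ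
    have hyB : (yJ : B) = ∑ p ∈ S, bb p * algebraMap A B (xx p) := by
      simp only [yJ, AddSubmonoidClass.coe_finsetSum, Submodule.coe_smul, smul_eq_mul]
    have hJ2 : J ^ 2 = Ideal.map (algebraMap A B) (I ^ 2) := (Ideal.map_pow _ _ _).symm
    rw [hJ2] at hyJ
    have hyJ' : (yJ : B) ∈ Submodule.span B ((algebraMap A B) '' ((I ^ 2 : Ideal A) : Set A)) := hyJ
    obtain ⟨n, cc, g, hg⟩ := Submodule.mem_span_set'.mp hyJ'
    choose w hw using fun i : Fin n => (g i).2
    let f : (↥S ⊕ Fin n) → A := Sum.elim (fun p => ((xx p.1 : I) : A)) (fun i => w i)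
    let v : (↥S ⊕ Fin n) → B := Sum.elim (fun p => bb p.1) (fun i => - cc i)
    have hrel : ∑ i, f i • v i = 0 := by
      rw [Fintype.sum_sum_type]
      simp only [f, v, Sum.elim_inl, Sum.elim_inr]
      rw [Finset.sum_coe_sort S (fun p => ((xx p : I) : A) • bb p)]
      have e1 : ∑ p ∈ S, ((xx p : I) : A) • bb p = (yJ : B) := by
        rw [hyB]
        refine Finset.sum_congr rfl fun p _ => ?_
        rw [Algebra.smul_def, mul_comm]
      have e2 : ∑ i, w i • (- cc i) = - (yJ : B) := by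
        rw [← hg, ← Finset.sum_neg_distrib]
        refine Finset.sum_congr rfl fun i _ => ?_
        rw [smul_neg, Algebra.smul_def, (hw i).2, smul_eq_mul, mul_comm]
      rw [e1, e2, add_neg_cancel]
    obtain ⟨k, a, yy, hv, ha⟩ := Module.Flat.isTrivialRelation_of_sum_smul_eq_zero (R := A) (M := B) (f := f) (x := v) hrel
    have hz2 : ∑ p ∈ S, (Ideal.Quotient.mk J (bb p)) ⊗ₜ[A ⧸ I] I.toCotangent (xx p) =
        ∑ j : Fin k, (Ideal.Quotient.mk J (yy j)) ⊗ₜ[A ⧸ I]
          I.toCotangent (∑ p : S, a (Sum.inl p) j • xx p.1) := by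
      rw [← Finset.sum_coe_sort S]
      have hp : ∀ p : S, (Ideal.Quotient.mk J (bb p.1)) ⊗ₜ[A ⧸ I] I.toCotangent (xx p.1) =
          ∑ j, (Ideal.Quotient.mk J (yy j)) ⊗ₜ[A ⧸ I]
            I.toCotangent (a (Sum.inl p) j • xx p.1) := by
        intro p
        have hvp := hv (Sum.inl p)
        simp only [v, Sum.elim_inl] at hvp
        rw [hvp, map_sum, TensorProduct.sum_tmul]
        refine Finset.sum_congr rfl fun j _ => ?_
        have e1 : Ideal.Quotient.mk J (a (Sum.inl p) j • yy j) =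
            (Ideal.Quotient.mk I (a (Sum.inl p) j)) • Ideal.Quotient.mk J (yy j) := by
          rw [Algebra.smul_def, Algebra.smul_def, map_mul]
          rfl
        have e2 : I.toCotangent (a (Sum.inl p) j • xx p.1) =
            (Ideal.Quotient.mk I (a (Sum.inl p) j)) • I.toCotangent (xx p.1) := by
          rw [map_smul, ← Ideal.Quotient.algebraMap_eq, algebraMap_smul]
        rw [e1, e2, TensorProduct.smul_tmul]
      rw [Finset.sum_congr rfl (fun p _ => hp p), Finset.sum_comm]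
      refine Finset.sum_congr rfl fun j _ => ?_
      rw [map_sum, TensorProduct.tmul_sum]
    rw [hz2]
    refine Finset.sum_eq_zero fun j _ => ?_
    have h0 : I.toCotangent (∑ p : S, a (Sum.inl p) j • xx p.1) = 0 := by
      rw [Ideal.toCotangent_eq_zero]
      have haj := ha j
      rw [Fintype.sum_sum_type] at haj
      simp only [f, Sum.elim_inl, Sum.elim_inr] at haj
      have e : ((∑ p : S, a (Sum.inl p) j • xx p.1 : I) : A) = - ∑ i, w i * a (Sum.inr i) j := by
        rw [eq_neg_iff_add_eq_zero, ← haj]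
        congr 1
        simp only [AddSubmonoidClass.coe_finsetSum, Submodule.coe_smul, smul_eq_mul, mul_comm]
      rw [e]
      exact neg_mem (sum_mem fun i _ => Ideal.mul_mem_right _ _ (hw i).1)
    rw [h0, TensorProduct.tmul_zero]
  refine ⟨LinearEquiv.ofBijective Ψ ⟨hinj, hsurj⟩, fun x => ?_⟩
  change Ψ _ = _
  rw [hΨ, one_smul, hκ₀]

end

end Groth.Agent.H5.QD
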