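import Mathlib
import Groth.Agent.Lib.Helper5.SymPow.F
import Groth.Agent.Lib.Helper5.SymPow.C
import Groth.Agent.Lib.Helper5.DSD.B

set_option autoImplicit false

namespace Groth.Agent.H5.QD

open TensorProduct

universe u v

section

variable {A₀ B₀ ι : Type u} [CommRing A₀] [CommRing B₀] [Algebra A₀ B₀] [Fintype ι] [Nonempty ι]
  {C C' : Type u} [CommRing C] [CommRing C'] [Algebra A₀ C] [Algebra B₀ C'] [Algebra C C']
  {M : Type v} [AddCommGroup M] [Module A₀ M] [Module C M] [IsScalarTower A₀ C M]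
  {M' : Type v} [AddCommGroup M'] [Module A₀ M'] [Module B₀ M'] [Module C' M']
  [IsScalarTower A₀ B₀ M'] [IsScalarTower B₀ C' M']
  (hC : Function.Surjective (algebraMap A₀ C))
  (hcompat : ∀ a : A₀, algebraMap C C' (algebraMap A₀ C a) = algebraMap B₀ C' (algebraMap A₀ B₀ a))
  (hinj : Function.Injective (algebraMap C C')) [Module.Projective C M]
  (κ : M →ₗ[A₀] M') (e : C' ⊗[C] M ≃ₗ[C'] M') (he : ∀ m, e (1 ⊗ₜ m) = κ m)

include hC hcompat hinj he in
theorem symPow_quot_baseChange_injective :
    Function.Injective (fun z : Sym[A₀] ι M =>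
      SymPow.canAdd (R := A₀) (S := B₀) (ι := ι) (M := M') (SymPow.map κ z)) := by
  obtain ⟨s, hs⟩ := Module.projective_def'.mp (inferInstance : Module.Projective C M)
  let p : (M →₀ C) →ₗ[C] M := Finsupp.linearCombination C (id : M → M)
  let b : Module.Basis M C (M →₀ C) := Finsupp.basisSingleOne (R := C) (ι := M)
  let b' : Module.Basis M C' (M →₀ C') := Finsupp.basisSingleOne (R := C') (ι := M)
  let s₀ : M →ₗ[A₀] (M →₀ C) := s.restrictScalars A₀
  let p₀ : (M →₀ C) →ₗ[A₀] M := p.restrictScalars A₀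
  let s' : M' →ₗ[C'] (M →₀ C') :=
    (LinearMap.liftBaseChange C' ((DSD.mr (B := C) (B' := C') (M := M)) ∘ₗ s)) ∘ₗ e.symm.toLinearMap
  have hs' : ∀ m, s' (κ m) = DSD.mr (B := C) (B' := C') (s m) := by
    intro m
    change LinearMap.liftBaseChange C' ((DSD.mr (B := C) (B' := C') (M := M)) ∘ₗ s)
      (e.symm (κ m)) = _
    rw [← he m, LinearEquiv.symm_apply_apply, LinearMap.liftBaseChange_tmul, one_smul]
    rfl
  let s'₀ : M' →ₗ[B₀] (M →₀ C') := s'.restrictScalars B₀
  let L : Sym[A₀] ι M → MvPolynomial M C' := fun z =>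
    MvPolynomial.map (algebraMap C C') (SymPow.theta (B₀ := A₀) (ι := ι) b (SymPow.map s₀ z))
  let Rr : Sym[A₀] ι M → MvPolynomial M C' := fun z =>
    SymPow.theta (B₀ := B₀) (ι := ι) b' (SymPow.map s'₀
      (SymPow.canAdd (R := A₀) (S := B₀) (ι := ι) (M := M') (SymPow.map κ z)))
  have hL : Function.Injective L := by
    intro z1 z2 h12
    have h1 := MvPolynomial.map_injective _ hinj h12
    have h2 := SymPow.theta_injective (B₀ := A₀) (ι := ι) b hC h1
    have h3 : ∀ z : Sym[A₀] ι M, SymPow.map p₀ (SymPow.map s₀ z) = z := by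
      intro z
      rw [← LinearMap.comp_apply, ← SymPow.map_comp]
      have : p₀ ∘ₗ s₀ = LinearMap.id := by
        ext m
        exact LinearMap.congr_fun hs m
      rw [this, SymPow.map_id, LinearMap.id_apply]
    rw [← h3 z1, ← h3 z2, h2]
  have hLR : ∀ z, L z = Rr z := by
    intro z
    have hz : z ∈ Submodule.span A₀ (Set.range (SymmetricPower.tprod A₀ (ι := ι) (M := M))) := by
      rw [SymmetricPower.span_tprod_eq_top]; trivial
    induction hz using Submodule.span_induction with
    | mem z hz =>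
      obtain ⟨v, rfl⟩ := hz
      change MvPolynomial.map (algebraMap C C') (SymPow.theta (B₀ := A₀) (ι := ι) b
          (SymPow.map s₀ (SymmetricPower.tprod A₀ v))) =
        SymPow.theta (B₀ := B₀) (ι := ι) b' (SymPow.map s'₀
          (SymPow.canAdd (R := A₀) (S := B₀) (ι := ι) (M := M')
            (SymPow.map κ (SymmetricPower.tprod A₀ v))))
      rw [SymPow.map_tprod, SymPow.theta_tprod, SymPow.map_tprod, SymPow.canAdd_tprod,
        SymPow.map_tprod, SymPow.theta_tprod, map_prod]
      refine Finset.prod_congr rfl fun i _ => ?_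
      change _ = SymPow.linForm b' (s' (κ (v i)))
      rw [hs', DSD.linForm_mr]
      rfl
    | zero =>
      change MvPolynomial.map (algebraMap C C') (SymPow.theta (B₀ := A₀) (ι := ι) b
          (SymPow.map s₀ 0)) =
        SymPow.theta (B₀ := B₀) (ι := ι) b' (SymPow.map s'₀
          (SymPow.canAdd (R := A₀) (S := B₀) (ι := ι) (M := M') (SymPow.map κ 0)))
      simp only [map_zero]
    | add z1 z2 _ _ h1 h2 =>
      change MvPolynomial.map (algebraMap C C') (SymPow.theta (B₀ := A₀) (ι := ι) b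
          (SymPow.map s₀ (z1 + z2))) =
        SymPow.theta (B₀ := B₀) (ι := ι) b' (SymPow.map s'₀
          (SymPow.canAdd (R := A₀) (S := B₀) (ι := ι) (M := M') (SymPow.map κ (z1 + z2))))
      simp only [map_add]
      exact congrArg₂ (· + ·) h1 h2
    | smul r z _ h1 =>
      change MvPolynomial.map (algebraMap C C') (SymPow.theta (B₀ := A₀) (ι := ι) b
          (SymPow.map s₀ (r • z))) =
        SymPow.theta (B₀ := B₀) (ι := ι) b' (SymPow.map s'₀
          (SymPow.canAdd (R := A₀) (S := B₀) (ι := ι) (M := M') (SymPow.map κ (r • z))))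
      have e1 : SymPow.theta (B₀ := A₀) (ι := ι) b (SymPow.map s₀ (r • z)) =
          MvPolynomial.C (algebraMap A₀ C r) * SymPow.theta (B₀ := A₀) (ι := ι) b (SymPow.map s₀ z) := by
        rw [map_smul, map_smul, ← algebraMap_smul C r, MvPolynomial.smul_eq_C_mul]
      have e2 : SymPow.theta (B₀ := B₀) (ι := ι) b' (SymPow.map s'₀
            (SymPow.canAdd (R := A₀) (S := B₀) (ι := ι) (M := M') (SymPow.map κ (r • z)))) =
          MvPolynomial.C (algebraMap B₀ C' (algebraMap A₀ B₀ r)) *
            SymPow.theta (B₀ := B₀) (ι := ι) b' (SymPow.map s'₀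
            (SymPow.canAdd (R := A₀) (S := B₀) (ι := ι) (M := M') (SymPow.map κ z))) := by
        rw [map_smul, SymPow.canAdd_smul, map_smul, map_smul, ← algebraMap_smul C' (algebraMap A₀ B₀ r),
          MvPolynomial.smul_eq_C_mul]
      rw [e1, e2, map_mul, MvPolynomial.map_C, hcompat]
      exact congrArg _ h1
  intro z1 z2 h12
  apply hL
  rw [hLR z1, hLR z2]
  change SymPow.theta (B₀ := B₀) (ι := ι) b' (SymPow.map s'₀
      (SymPow.canAdd (R := A₀) (S := B₀) (ι := ι) (M := M') (SymPow.map κ z1))) =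
    SymPow.theta (B₀ := B₀) (ι := ι) b' (SymPow.map s'₀
      (SymPow.canAdd (R := A₀) (S := B₀) (ι := ι) (M := M') (SymPow.map κ z2)))
  have h12' : SymPow.canAdd (R := A₀) (S := B₀) (ι := ι) (M := M') (SymPow.map κ z1) =
      SymPow.canAdd (R := A₀) (S := B₀) (ι := ι) (M := M') (SymPow.map κ z2) := h12
  rw [h12']

end

end Groth.Agent.H5.QD
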