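import Mathlib
import Groth.Prelude.Def_PP16
import Groth.Agent.Lib.Helper5.QR.E
import Groth.Agent.Lib.Helper5.QR.H4
import Groth.Agent.Lib.Helper5.QR.I3
import Groth.Agent.Lib.Helper5.DSD.A
import Groth.Agent.Lib.Helper5.QD.A
import Groth.Agent.Lib.Helper5.QD.B

set_option autoImplicit false

namespace Groth.Agent.H5.QD

open TensorProduct

universe u

section

variable (A B : Type u) [CommRing A] [CommRing B] [Algebra A B] [Module.FaithfullyFlat A B]
  (I : Ideal A)

theorem faithfullyFlat_quotient :
    Module.FaithfullyFlat (A ⧸ I) (B ⧸ I.map (algebraMap A B)) :=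
  Module.FaithfullyFlat.of_linearEquiv (A ⧸ I) ((A ⧸ I) ⊗[A] B)
    (Algebra.TensorProduct.quotIdealMapEquivQuotTensor B I).toLinearEquiv

theorem projective_cotangent_descent (hfg : (I.map (algebraMap A B)).FG)
    [Module.Projective (B ⧸ I.map (algebraMap A B)) (I.map (algebraMap A B)).Cotangent] :
    Module.Projective (A ⧸ I) I.Cotangent := by
  haveI := faithfullyFlat_quotient A B I
  obtain ⟨e, -⟩ := exists_cotangent_equiv A B I
  haveI : Module.Finite B ↥(I.map (algebraMap A B)) := Module.Finite.iff_fg.mpr hfg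
  haveI : Module.Finite B (I.map (algebraMap A B)).Cotangent :=
    Module.Finite.of_surjective (I.map (algebraMap A B)).toCotangent
      (I.map (algebraMap A B)).toCotangent_surjective
  haveI : Module.Finite (B ⧸ I.map (algebraMap A B)) (I.map (algebraMap A B)).Cotangent :=
    Module.Finite.of_restrictScalars_finite B _ _
  haveI : Module.Finite (B ⧸ I.map (algebraMap A B))
      ((B ⧸ I.map (algebraMap A B)) ⊗[A ⧸ I] I.Cotangent) := Module.Finite.equiv e.symm
  haveI : Module.Projective (B ⧸ I.map (algebraMap A B))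
      ((B ⧸ I.map (algebraMap A B)) ⊗[A ⧸ I] I.Cotangent) := Module.Projective.of_equiv e.symm
  exact (DSD.finite_projective_of_faithfullyFlat (A ⧸ I) (B ⧸ I.map (algebraMap A B))
    I.Cotangent).2

end

end Groth.Agent.H5.QD
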