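import Mathlib
import Groth.Prelude.Def_PP16
import Groth.Agent.Lib.Helper5.GrSym.J
import Groth.Agent.Lib.Helper5.QD.C

set_option autoImplicit false

namespace Groth.Agent.H5.QD

open TensorProduct

universe u

section

variable (A B : Type u) [CommRing A] [CommRing B] [Algebra A B] [Module.FaithfullyFlat A B]
  (I : Ideal A)

lemma algebraMap_mem_pow (k : ℕ) (y : A) (hy : y ∈ I ^ k) :
    algebraMap A B y ∈ (I.map (algebraMap A B)) ^ k := by
  rw [← Ideal.map_pow]
  exact Ideal.mem_map_of_mem _ hy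

/-- The cotangent map `I/I² → IB/(IB)²`. -/
noncomputable def kap : I.Cotangent →ₗ[A] (I.map (algebraMap A B)).Cotangent :=
  Ideal.mapCotangent I (I.map (algebraMap A B)) (Algebra.ofId A B) Ideal.le_comap_map

lemma kap_toCotangent (x : I) : kap A B I (I.toCotangent x) =
    (I.map (algebraMap A B)).toCotangent ⟨algebraMap A B x, mem_map_of_mem' A B I x⟩ := rfl

theorem symGrBijective_descent (hfg : (I.map (algebraMap A B)).FG)
    [Module.Projective (B ⧸ I.map (algebraMap A B)) (I.map (algebraMap A B)).Cotangent]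
    (h : PP16.SymGrBijective B (I.map (algebraMap A B))) : PP16.SymGrBijective A I := by
  haveI hp : Module.Projective (A ⧸ I) I.Cotangent := projective_cotangent_descent A B I hfg
  haveI := faithfullyFlat_quotient A B I
  set J : Ideal B := I.map (algebraMap A B) with hJ
  intro ι _ _
  obtain ⟨φ, hφ0⟩ := GrSym.exists_canonical (B₀ := A) (ι := ι) I (I ^ Fintype.card ι)
    (I ^ (Fintype.card ι + 1)) (fun _ => Iff.rfl) (fun _ => Iff.rfl)
  have hφ : ∀ x : ι → I, φ (SymmetricPower.tprod A fun i => I.toCotangent (x i)) =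
      GrSym.cls I (I ^ Fintype.card ι) (I ^ (Fintype.card ι + 1)) (fun _ => Iff.rfl)
        (∏ i, (x i : A)) (GrSym.prod_mem I x) := hφ0
  have hφz : ∀ x : ι → I, φ (SymmetricPower.tprod A fun i => I.toCotangent (x i)) =
      PP16.zetaJ A I x := hφ0
  refine ⟨φ, hφz, ?_, GrSym.surjective_of_pinned I _ _ (fun _ => Iff.rfl) (fun _ => Iff.rfl)
    (fun s => ⟨s, by simp⟩) φ hφ⟩
  obtain ⟨φ', hφ'0, hbij'⟩ := h ι
  have hφ' : ∀ x : ι → J, φ' (SymmetricPower.tprod B fun i => J.toCotangent (x i)) =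
      GrSym.cls J (J ^ Fintype.card ι) (J ^ (Fintype.card ι + 1)) (fun _ => Iff.rfl)
        (∏ i, (x i : B)) (GrSym.prod_mem J x) := hφ'0
  let bc : Sym[A] ι I.Cotangent → Sym[B] ι J.Cotangent := fun z =>
    SymPow.canAdd (R := A) (S := B) (ι := ι) (M := J.Cotangent) (SymPow.map (kap A B I) z)
  have bc_add : ∀ z1 z2, bc (z1 + z2) = bc z1 + bc z2 := fun z1 z2 => by
    change SymPow.canAdd (R := A) (S := B) (ι := ι) (M := J.Cotangent) (SymPow.map (kap A B I) (z1 + z2)) = _
    rw [map_add, map_add]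
  have bc_zero : bc 0 = 0 := by
    change SymPow.canAdd (R := A) (S := B) (ι := ι) (M := J.Cotangent) (SymPow.map (kap A B I) 0) = _
    rw [map_zero, map_zero]
  have bc_smul : ∀ (a : A) z, bc (a • z) = algebraMap A B a • bc z := fun a z => by
    change SymPow.canAdd (R := A) (S := B) (ι := ι) (M := J.Cotangent) (SymPow.map (kap A B I) (a • z)) = _
    rw [map_smul, SymPow.canAdd_smul]
  have bc_tprod : ∀ x : ι → I, bc (SymmetricPower.tprod A fun i => I.toCotangent (x i)) =
      SymmetricPower.tprod B fun i => J.toCotangent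
        ⟨algebraMap A B (x i), mem_map_of_mem' A B I (x i)⟩ := fun x => by
    change SymPow.canAdd (R := A) (S := B) (ι := ι) (M := J.Cotangent) (SymPow.map (kap A B I) _) = _
    rw [SymPow.map_tprod, SymPow.canAdd_tprod]
    rfl
  have key : ∀ z : Sym[A] ι I.Cotangent,
      ∃ (y : A) (hy : y ∈ I ^ Fintype.card ι),
        φ z = GrSym.cls I (I ^ Fintype.card ι) (I ^ (Fintype.card ι + 1)) (fun _ => Iff.rfl) y hy ∧
        φ' (bc z) = GrSym.cls J (J ^ Fintype.card ι) (J ^ (Fintype.card ι + 1)) (fun _ => Iff.rfl)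
          (algebraMap A B y) (algebraMap_mem_pow A B I _ y hy) := by
    intro z
    have hz : z ∈ Submodule.span A (Set.range fun c : ι → I =>
        SymmetricPower.tprod A fun i => I.toCotangent (c i)) := by
      have := SymPow.span_tprod_comp (R := A) (ι := ι)
        (fun c : I => I.toCotangent c) (by
          rw [eq_top_iff]
          rintro m -
          obtain ⟨x, rfl⟩ := I.toCotangent_surjective m
          exact Submodule.subset_span ⟨x, rfl⟩)
      rw [this]; trivial
    induction hz using Submodule.span_induction with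
    | mem z hz =>
      obtain ⟨x, rfl⟩ := hz
      refine ⟨_, _, hφ x, ?_⟩
      rw [bc_tprod]
      refine (hφ' (fun i => ⟨algebraMap A B (x i), mem_map_of_mem' A B I (x i)⟩)).trans ?_
      apply GrSym.cls_congr'
      rw [map_prod]
    | zero =>
      refine ⟨0, zero_mem _, by rw [map_zero]; rfl, ?_⟩
      rw [bc_zero, map_zero]
      exact (GrSym.cls_congr' J _ _ (fun _ => Iff.rfl) (map_zero _) _ (zero_mem _)).symm
    | add z1 z2 _ _ h1 h2 =>
      obtain ⟨y1, hy1, e1, f1⟩ := h1
      obtain ⟨y2, hy2, e2, f2⟩ := h2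
      refine ⟨y1 + y2, add_mem hy1 hy2, by rw [map_add, e1, e2]; rfl, ?_⟩
      rw [bc_add, map_add, f1, f2]
      exact (GrSym.cls_congr' J _ _ (fun _ => Iff.rfl) (map_add _ y1 y2) _
        (add_mem (algebraMap_mem_pow A B I _ y1 hy1) (algebraMap_mem_pow A B I _ y2 hy2))).symm
    | smul a z _ h1 =>
      obtain ⟨y, hy, e, f⟩ := h1
      have hay : a • y ∈ I ^ Fintype.card ι := by
        rw [smul_eq_mul]; exact Ideal.mul_mem_left _ _ hy
      refine ⟨a • y, hay, by rw [map_smul, e]; rfl, ?_⟩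
      rw [bc_smul, map_smul, f]
      have hay' : algebraMap A B a • algebraMap A B y ∈ J ^ Fintype.card ι := by
        rw [smul_eq_mul]
        exact Ideal.mul_mem_left _ _ (algebraMap_mem_pow A B I _ y hy)
      have e3 : algebraMap A B (a • y) = algebraMap A B a • algebraMap A B y := by
        rw [smul_eq_mul, map_mul, smul_eq_mul]
      exact (GrSym.cls_congr' J _ _ (fun _ => Iff.rfl) e3 _ hay').symm
  rw [injective_iff_map_eq_zero]
  intro z hz
  obtain ⟨y, hy, e, f⟩ := key z
  rw [hz] at e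
  have hy1 : y ∈ I ^ (Fintype.card ι + 1) :=
    (GrSym.cls_eq_zero_iff I (I ^ Fintype.card ι) (I ^ (Fintype.card ι + 1)) (fun _ => Iff.rfl)
      (fun _ => Iff.rfl) y hy).mp e.symm
  have hy2 := algebraMap_mem_pow A B I _ y hy1
  rw [GrSym.cls_eq_zero J _ _ (fun _ => Iff.rfl) (fun _ => Iff.rfl) _ _ hy2] at f
  have hbc0 : bc z = 0 := by
    apply hbij'.1
    rw [f, map_zero]
  obtain ⟨ec, hec⟩ := exists_cotangent_equiv A B I
  have hec' : ∀ m : I.Cotangent, ec ((1 : B ⧸ J) ⊗ₜ[A ⧸ I] m) = kap A B I m := by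
    intro m
    obtain ⟨x, rfl⟩ := I.toCotangent_surjective m
    rw [hec x, kap_toCotangent]
  have hinjC : Function.Injective (algebraMap (A ⧸ I) (B ⧸ J)) :=
    FaithfulSMul.algebraMap_injective (A ⧸ I) (B ⧸ J)
  have hinjbc := symPow_quot_baseChange_injective (A₀ := A) (B₀ := B) (ι := ι)
    (C := A ⧸ I) (C' := B ⧸ J) (M := I.Cotangent) (M' := J.Cotangent)
    (by rw [Ideal.Quotient.algebraMap_eq]; exact Ideal.Quotient.mk_surjective)
    (fun a => rfl) hinjC (kap A B I) ec hec'
  exact hinjbc (hbc0.trans bc_zero.symm)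

end

end Groth.Agent.H5.QD
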