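import Mathlib
import Groth.Prelude.Def_PP16
import Groth.Agent.Lib.Helper5.QD.D

set_option autoImplicit false

namespace Groth.Agent.H5.QD

universe u

theorem isLocallyQuasiRegular_descent (A B : Type u) [CommRing A] [CommRing B] [Algebra A B]
    [Module.FaithfullyFlat A B] (I : Ideal A)
    (h : PP16.IsLocallyQuasiRegular B (Ideal.map (algebraMap A B) I)) :
    PP16.IsLocallyQuasiRegular A I := by
  have hfg := QR.fg_of_isLocallyQuasiRegular _ h
  haveI := QR.projective_of_isLocallyQuasiRegular _ h
  have hsym := QR.symGrBijective_of_isLocallyQuasiRegular _ h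
  exact QR.isLocallyQuasiRegular_of I (Ideal.FG.of_FG_map_of_faithfullyFlat hfg)
    (projective_cotangent_descent A B I hfg) (symGrBijective_descent A B I hfg hsym)

end Groth.Agent.H5.QD
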